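import Cfsg.Agent.KM.E2.P8_m3
import Cfsg.Agent.KM.Tor.TW_m3
import Cfsg.Agent.BpExc.NChev
import Cfsg.Agent.Lib.Refl
import Cfsg.Agent.KM.Sc.E3
import Cfsg.Agent.FastGrp
import Cfsg.Agent.Prune
set_option linter.all false

section
prune_inst 0x7ffefdfcefb9bfffffff7ffffedddffd99b1ffffefdffd737fe963ff0fdf03658fc7ffa7edf492fe9ef6e2bc14387b53fdffffffea6bfc7ffffd5ff41ffbee1fb7eeb5ac719cbcb40ffc6fff9bf37f8e7f3ffffffffffffffffffffffffffffffffdffffffff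

-- part: KM/Ev/Fr
section
prune_inst 0x200000000000000000000000000000000000000000000000000000000000000000000000000000000020000000000000000000000000000000000000000000000000000000000000000000000000000000000000000000000
set_option linter.all false
open scoped Cfsg.Agent.FastGrp

-- part: KM/Ev/Geo
section
/-!
# KM, `l = 2`, exceptional groups: the three geometric arguments (helper73)

`geo_f` (type `F₄`), `geo_e` (type `E₆`), `geo_t` (triality), from hypotheses on the lattice.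
-/

set_option autoImplicit false
set_option linter.unusedSectionVars false

namespace Cfsg.Agent.KM.Ev

open Cfsg Subgroup Matrix Cfsg.Agent.DL Cfsg.Agent.Nodes.Reps Cfsg.Agent.Nodes.BNOf Cfsg.Agent.Nodes.Coroot Cfsg.Agent.BpExc.Zc
  Cfsg.Agent.TO.X5 Cfsg.Agent.KM.Tor
open Cfsg.Agent.TO.X.Cn (Pi1 cl χ_exp mem_cen exists_cl cl_add cl_sr cl_smul cl_zero Tr tr_of_dvd comm_exp mem_WZ rf_exp
  pow_mem_cen)

variable {p : ℕ} [Fact p.Prime] {k : Type} [Field k] [CharP k p] {Y : Type} [Group Y] {N : Type} [Fintype N]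
  [DecidableEq N] {ρ : Y →* GL N k} {F : MulAut Y} {G : Subgroup Y} [IsAlgClosed k] {X : Datum p ρ F G}
  {a b : X.I → ℤ} {D K : Subgroup Y} {t g y : Y} {f : ℕ}

theorem lev_a (hp : p ≠ 2) (ha : Lg X a) : ∃ z ∈ X.T, z ^ 2 ^ 2 = 1 ∧ X.Sz {z} = Pe X {a} ∧ QC X {z} := by
  obtain ⟨ζ, hζ⟩ := exists_prim p k (n := 2 ^ 2) fun h =>
    hp ((Nat.prime_dvd_prime_iff_eq Fact.out Nat.prime_two).1 ((Fact.out : p.Prime).dvd_of_dvd_pow h))
  have h1 := sz_ct (P := {a}) (fun _ e => e ▸ ha) (ζ := ζ) (by omega)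
  rw [Set.image_singleton] at h1
  refine ⟨_, ct_mem a ζ, by rw [ct, ← map_pow, ← map_pow, ← hζ, pow_orderOf_eq_one, map_one, map_one], h1, X.cor a,
    fun b hb => ?_⟩
  rw [h1, show X.wt b ⬝ᵥ X.cor a = _ from X.pair_cor ha.1 b]
  exact ⟨fun h => h.2 a rfl, fun h => ⟨hb, fun _ e => e ▸ h⟩⟩

section

variable (cz : CommZ X.cs X.h X.X) (hp : p ≠ 2) (h : Pi1 X f) (hf : Nat.Coprime 2 f) (uq : UQ X)
  (hg : ∀ a, Lg X a → Lg X (X.g a)) (h0 : ¬ Rc X 0) (h2 : ∀ x y, ¬ Rc X x → CC X {iw X y, iw X x}) (h3 : P3 X) (hz : ZCs X 2)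
include cz hp h hf uq hg h0 h2 h3 hz

/-- **the classes which are not of root type form a subgroup** -/
theorem geo_f (n1 : ∀ x y, ¬ Rc X x → ¬ Rc X y → ¬ Rc X (x + y))
    (n2 : ∀ b, X.Rt b → {x | c2 (X.wt b) ⬝ᵥ x = 0}.ncard ≤ 8)
    (n3 : ∀ x y z, Rc X x → Rc X y → Rc X (x + y) → Rc X z → Rc X (x + z) → Rc X (y + z) → ¬ Rc X (x + y + z)) : Geo X := by
  refine geo_of cz hp h hf uq hg h0 h2 h3 fun D H g k0 P _ k1 ⟨r, r1, r2⟩ k2 k3 => ?_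
  have a1 : ∀ d ∈ Om D, Ro X d → g⁻¹ * d * g ∈ Zc X (Pe X P) := fun d hd e => by
    obtain ⟨a, ha, e⟩ := k2 d hd e
    exact e ▸ ⟨ct_mem _ _, fun b hb => by rw [χ_ct (k1 a ha).1, hb.2 a ha, zpow_zero, Units.val_one]⟩
  have a2 : ∀ d ∈ Om D, g⁻¹ * d * g ∈ Zc X (Pe X P) := fun d hd => by
    by_cases e : Ro X d
    · exact a1 d hd e
    have a3 := H.om_mul hd r1
    by_cases e' : Ro X (d * r)
    · exact (Subgroup.mul_mem_cancel_right _ (a1 r r1 r2)).1 (cj_mul' g d r ▸ a1 _ a3 e')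
    obtain ⟨u, hu, b1, b2⟩ := tor_two hp h hf H hd a3
    obtain ⟨x, hx⟩ := exists_iw hp b1 hd.2
    obtain ⟨y, hy⟩ := exists_iw hp b2 a3.2
    exact (n1 x y ((ro_iff cz hp hu hx).not.1 e) ((ro_iff cz hp hu hy).not.1 e') ((ro_iff cz hp hu (by
      rw [iw_add hp, ← hx, ← hy, ← cj_mul', ← mul_assoc d, hd.2, one_mul])).1 r2)).elim
  choose! ξ hξ using fun d hd => exists_iw hp (a2 d hd).1 hd.2
  rcases (X.Sz ((fun d => g⁻¹ * d * g) '' Om D)).eq_empty_or_nonempty with e | ⟨b, hb⟩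
  · have a3 : Pe X P = ∅ := Set.eq_empty_of_subset_empty (e ▸ fun b hb => ⟨hb.1, fun _ ⟨d, hd, e⟩ => e ▸ (a2 d hd).2 b hb⟩)
    exact .inl (toral_fin hp hz H k0 (fun d hd => (sup_le le_rfl (a3 ▸ RGD.Sup_le fun _ h => h.elim) : Lp X P ≤ X.T) (k3 d hd))
      (qc_of_empty (Set.eq_empty_of_subset_empty (e ▸ Sz_anti (Set.image_mono fun _ hd => hd.1)))))
  refine .inr ⟨(Set.ncard_le_ncard_of_injOn ξ (fun d hd => (χ_iw hp b _).1 (hξ d hd ▸ hb.2 _ ⟨d, hd, rfl⟩))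
    fun d hd e he e' => cj_inj (by rw [hξ d hd, e', hξ e he])).trans (n2 b hb.1), fun a3 => ?_⟩
  refine le_four fun a ha b hb c hc b1 b2 b3 => by_contra fun b4 => ?_
  push Not at b4
  have m : ∀ {d u d' u'}, g⁻¹ * d * g = iw X u → g⁻¹ * d' * g = iw X u' → g⁻¹ * (d * d') * g = iw X (u + u') :=
    fun e e' => by rw [cj_mul', e, e', iw_add hp]
  have e : ∀ {d d'}, d ∈ Om D → d' ∈ Om D → d' ≠ d → Ro X (d * d') := fun hd hd' e =>
    a3 _ (H.om_mul hd hd') fun e' => e (mul_left_cancel (e'.trans hd.2.symm))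
  exact n3 _ _ _ ((ro_iff cz hp k0 (hξ a ha)).1 (a3 a ha b1)) ((ro_iff cz hp k0 (hξ b hb)).1 (a3 b hb b2))
    ((ro_iff cz hp k0 (m (hξ a ha) (hξ b hb))).1 (e ha hb b3)) ((ro_iff cz hp k0 (hξ c hc)).1 (a3 c hc b4.1))
    ((ro_iff cz hp k0 (m (hξ a ha) (hξ c hc))).1 (e ha hc b4.2.1)) ((ro_iff cz hp k0 (m (hξ b hb) (hξ c hc))).1 (e hb hc b4.2.2.1))
    ((ro_iff cz hp k0 (m (m (hξ a ha) (hξ b hb)) (hξ c hc))).1 (e (H.om_mul ha hb) hc b4.2.2.2))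

/-- **the Levi subsystems `a ^ ⊥` are good** -/
theorem geo_e (gd : ∀ a, Lg X a → Gds X 2 (Pe X {a}))
    (q1 : ∀ a, Lg X a → ∀ x, c2 (X.wt a) ⬝ᵥ x = 0 → (Rc X (x + c2 (X.cor a)) ↔ ¬ Rc X x)) : Geo X := by
  refine geo_of cz hp h hf uq hg h0 h2 h3 fun D H g k0 P ⟨a, ha⟩ k1 ⟨r, r1, r2⟩ _ k3 => ?_
  obtain ⟨z, z1, z2, z3, z4⟩ := lev_a hp (k1 a ha)
  obtain ⟨c, c1, c2, -⟩ := ind h Nat.prime_two hp.symm hf (Set.singleton_subset_iff.2 z1) (Set.finite_singleton z) z4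
    (fun y hy hc => mem_cen h z1 z2 (hf.pow_left 2) hy (mem_centralizer_singleton_iff.1 hc)) (z3 ▸ gd a (k1 a ha))
    (H.fin.image fun d => g⁻¹ * d * g)
    (fun _ ⟨d, hd, e⟩ => e ▸ Lp_le_cen (z3 ▸ fun b hb => ⟨hb.1, fun _ e => e ▸ hb.2 a ha⟩) (k3 d hd))
    (fun _ ⟨d, hd, e⟩ => e ▸ (H.pg d hd).imp fun _ => conj_pow') fun _ ⟨d, hd, e⟩ _ ⟨d', hd', e'⟩ => e ▸ e' ▸ conj_comm (H.ab d hd d' hd')
  replace k0 := mul_mem k0 (X.cen_le_G _ c1)
  replace c2 : ∀ d ∈ D, (g * c)⁻¹ * d * (g * c) ∈ X.T := fun d hd => One.cj_two d g c ▸ c2 _ ⟨d, hd, rfl⟩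
  clear k3
  generalize g * c = g at k0 c2
  refine (em _).imp (toral_fin hp hz H k0 c2) fun hq => ?_
  have key : ∀ d ∈ Om D, ∀ e ∈ Om D, Ro X e → (Ro X (d * e) ↔ ¬ Ro X d) := fun d hd e he h1 => by
    obtain ⟨x, hx⟩ := exists_iw hp (c2 d hd.1) hd.2
    obtain ⟨y, hy⟩ := exists_iw hp (c2 e he.1) he.2
    obtain ⟨b, hb, rfl⟩ := (ro_iff cz hp k0 hy).1 h1
    rw [ro_iff cz hp k0 hx, ro_iff cz hp k0 (x := x + _) (by rw [cj_mul', hx, hy, iw_add hp])]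
    refine q1 b hb x ((χ_iw hp b x).1 (hx ▸ by_contra fun h4 => hq ?_))
    obtain ⟨z, z1, z2, z3, z4⟩ := lev_a hp hb
    obtain ⟨v, hv⟩ := (One.union (f := 1) Nat.prime_two hp.symm z4 (z3 ▸ gd b hb) (H.fin.image fun d => g⁻¹ * d * g)
      (fun _ ⟨d, hd, e⟩ => e ▸ c2 d hd) fun _ ⟨d, hd, e⟩ => e ▸ (H.pg d hd).imp fun _ => conj_pow').1
    refine ⟨v, fun c hc => Iff.trans ⟨fun h5 => ⟨hc, fun s hs => hs.elim (h5.2 s) ((z3.ge ⟨hc, fun _ e' => ?_⟩).2 s)⟩,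
      fun h5 => Sz_anti Set.subset_union_left h5⟩ (hv c hc)⟩
    rcases sz_neg hp hb (b := c) ⟨hc, fun _ e' => by rw [e', ct_iw hp, ← hy]; exact h5.2 _ ⟨e, he.1, rfl⟩⟩ with rfl | rfl | h6
    · exact (h4 (h5.2 _ ⟨d, hd.1, rfl⟩)).elim
    · exact (h4 (neg_neg b ▸ (X.Sz_neg h5).2 _ ⟨d, hd.1, rfl⟩)).elim
    · exact e' ▸ h6
  have a1 : {d ∈ Om D | ¬ Ro X d}.ncard ≤ 4 := pure_le cz hp h3 (fun _ hd => ⟨hd.1.2, hd.2⟩)
    (fun d hd e he => ⟨H.om_mul hd.1 he.1, fun h1 => he.2 (by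
      simpa only [← mul_assoc, hd.1.2, one_mul] using (key d hd.1 _ (H.om_mul hd.1 he.1) h1).2 hd.2)⟩)
    fun _ ha _ hb _ hc => ⟨g, k0, c2 _ ha.1.1, c2 _ hb.1.1, c2 _ hc.1.1⟩
  have a2 : {d ∈ Om D | ¬ Ro X d}.Finite := H.om_fin.sep _
  refine ⟨(Set.ncard_le_ncard (t := {d ∈ Om D | ¬ Ro X d} ∪ (· * r) '' {d ∈ Om D | ¬ Ro X d}) (fun d hd => ?_)
    (a2.union (a2.image _))).trans ((Set.ncard_union_le _ _).trans (add_le_add a1 ((Set.ncard_image_le a2).trans a1))),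
    fun a3 => le_four fun a ha b hb _ _ b1 b2 b3 => ((key a ha b hb (a3 b hb b2)).1
      (a3 _ (H.om_mul ha hb) fun e' => b3 (mul_left_cancel (e'.trans ha.2.symm))) (a3 a ha b1)).elim⟩
  by_cases e : Ro X d
  · exact .inr ⟨d * r, ⟨H.om_mul hd r1, fun e' => (key d hd r r1 r2).1 e' e⟩, by simp only [mul_assoc, r1.2, mul_one]⟩
  · exact .inl ⟨hd, e⟩

end

/-! ### triality -/

variable (X) in
/-- the coroot lattice -/
def LQ : AddSubgroup (X.R → ℤ) where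
  carrier := {v | ∃ β, v = cl X β}
  zero_mem' := ⟨0, (cl_zero X).symm⟩
  add_mem' := fun ⟨β, e⟩ ⟨γ, e'⟩ => ⟨β + γ, by rw [cl_add, e, e']⟩
  neg_mem' := fun ⟨β, e⟩ => ⟨(-1 : ℤ) • β, by rw [cl_smul, e, neg_one_smul]⟩

theorem Wm_LQ (w : X.W) (v : X.R → ℤ) : X.Wm w *ᵥ v - v ∈ LQ X := (exists_cl X v w).imp fun _ e => sub_eq_of_eq_add' e

theorem Mx_LQ {v : X.R → ℤ} (h : v ∈ LQ X) : X.Mx *ᵥ v ∈ LQ X := by
  obtain ⟨β, rfl⟩ := h
  rw [cl, mulVec_sum]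
  refine sum_mem fun i _ => ?_
  have hi : X.Rt (Tits.Roots.sr i) := Tits.Roots.isRoot_sr _ _ i
  rw [mulVec_smul, ← X.cor_sr, X.Mx_cor hi]
  exact zsmul_mem (zsmul_mem (show _ ∈ LQ X from cor_cl (X.g_root _ hi)) _) _

variable (X) in
/-- `A` has no fixed points on the fundamental group -/
def Tri (A : Matrix X.R X.R ℤ) : Prop := ∀ μ, μ + A *ᵥ μ + A *ᵥ A *ᵥ μ ∈ LQ X

theorem Tri.tw (h : Tri X X.Mx) (w : X.W) : Tri X (X.Wm w * X.Mx) := fun μ => by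
  have h1 := add_mem (add_mem (add_mem (h μ) (Wm_LQ w (X.Mx *ᵥ μ))) (Mx_LQ (Wm_LQ w (X.Mx *ᵥ μ))))
    (Wm_LQ w (X.Mx *ᵥ X.Wm w *ᵥ X.Mx *ᵥ μ))
  rw [mulVec_sub] at h1
  rw [← mulVec_mulVec, ← mulVec_mulVec]
  convert h1 using 1
  abel

theorem exists_lam (hp : p ≠ 2) {u : X.R → ℤ} (h : F (X.τ (coch u (-1))) = X.τ (coch u (-1))) :
    ∃ v, X.Mx *ᵥ u = u + (2 : ℤ) • v := by
  rw [X.F_τ, mon_coch, eq_comm, coch_eq hp, c2_eq] at h
  choose v hv using h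
  exact ⟨v, funext fun i => eq_add_of_sub_eq' (hv i)⟩

theorem tr_F {u v μ : X.R → ℤ} {w : X.W} (hu : X.Mx *ᵥ u = u + (2 : ℤ) • v) (h : Tr X 2 u w μ) :
    Tr X 2 u (X.Fw w) (X.Mx *ᵥ μ) := by
  obtain ⟨β, hβ⟩ := h
  obtain ⟨γ, hγ⟩ := sub_mem (Mx_LQ (X := X) ⟨β, rfl⟩) (Wm_LQ (X.Fw w) v)
  have h1 := congrArg (X.Mx *ᵥ ·) hβ
  simp only [mulVec_mulVec, X.Mx_Wm] at h1
  rw [← mulVec_mulVec, mulVec_add, hu, mulVec_add, mulVec_smul, mulVec_smul, mulVec_add] at h1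
  exact ⟨γ, by rw [← hγ, eq_sub_of_add_eq h1]; module⟩

theorem mem_tri (hp : p ≠ 2) (h : Pi1 X 2) (h3 : Tri X X.Mx) (ht : t ∈ X.T) (h1 : t * t = 1) (h2 : F t = t) (hy : y ∈ G)
    (hc : y * t = t * y) (h4 : F y * y⁻¹ ∈ X.cen {t}) : y ∈ X.cen {t} := by
  have hZ := Set.singleton_subset_iff.2 ht
  have hc' := mem_centralizer_singleton_iff.2 hc
  have hF : ∀ z ∈ X.cen {t}, F z ∈ X.cen {t} := fun z hz => (show X.cen {t} ≤ (X.cen {t}).comap F.toMonoidHom from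
    sup_le (fun _ h => X.T_le_cen _ (X.F_mem_T h)) fun _ h =>
      X.S_le_cen _ (X.F_mem_S X.Sz_root (fun _ => X.g_mem_Sz hZ fun _ e => e ▸ h2) h)) hz
  obtain ⟨c, k1, m, ⟨w, hm⟩, k2, e⟩ := X.exists_cen_form hZ hy hc'
  have k3 : m * y⁻¹ ∈ X.cen {t} := by
    rw [show m * y⁻¹ = c⁻¹ by rw [e]; group]
    exact inv_mem (X.S_le_cen _ k1)
  have k4 : ∀ z, z * y⁻¹ ∈ X.cen {t} → F z * y⁻¹ ∈ X.cen {t} := fun z hz => by
    rw [show F z * y⁻¹ = F (z * y⁻¹) * (F y * y⁻¹) by rw [map_mul, map_inv]; group]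
    exact mul_mem (hF _ hz) h4
  have k5 : m * F m * F (F m) ∈ X.cen {t} := by
    obtain ⟨u, rfl⟩ := Ex.exists_coch (ord_neg hp) Nat.prime_two ht ((sq t).trans h1)
    obtain ⟨v, hv⟩ := exists_lam hp h2
    obtain ⟨μ, -, k5, -⟩ := tr_of_dvd (comm_exp X hm k2)
    rw [ord_neg hp] at k5
    obtain ⟨β, hβ⟩ := h3 μ
    refine (mem_WZ X ((hm.mul (Datum.Rp.mapF hm)).mul (Datum.Rp.mapF (Datum.Rp.mapF hm)))).1
      (Tr.mem two_pos (hβ ▸ (k5.mul (tr_F hv k5)).mul (tr_F hv (tr_F hv k5))) fun a ha e => rf_exp a ha ?_)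
    rwa [ord_neg hp]
  have k6 := X.conj_mem_cen hZ hy hc' (mul_mem (k4 _ k3) (X.conj_mem_cen hZ hy hc' (k4 _ (k4 _ k3))))
  have k7 := mul_mem (mul_mem (inv_mem (mul_mem k3 k6)) k5) (inv_mem (pow_mem_cen h ht hy hc))
  rwa [show _ * (y ^ 2)⁻¹ = y by group] at k7

theorem mc_tri (hp : p ≠ 2) (h : Pi1 X 2) (h3 : Tri X X.Mx) : MC X := fun t ht h1 y hy h2 g hg h4 => by
  have e : ∀ z ∈ GF F G, g⁻¹ * F g * F (g⁻¹ * z * g) = g⁻¹ * z * g * (g⁻¹ * F g) := fun z hz => by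
    rw [map_mul, map_mul, map_inv, (mem_GF.1 hz).2]; group
  obtain ⟨c, hc, m, hm, h5, h6⟩ := X.exists_conj_form (ι := Unit) (s := fun _ => F (g⁻¹ * t * g)) (t := fun _ => g⁻¹ * t * g)
    (fun _ => X.F_mem_T h4) (fun _ => h4) (mul_mem (inv_mem hg) (X.F_mem_G hg)) fun _ => e t ht
  have hy' := mul_mem (mul_mem (inv_mem hg) hy.1) hg
  rw [Set.range_const] at hc
  refine mem_tri (X := X.twist hm) hp h (h3.tw _) h4 (by rw [← cj_mul', h1, cj_eq_one]) (mul_inv_eq_iff_eq_mul.2 (h5 ())) hy'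
    (conj_comm h2) ?_
  have h7 := e y hy
  rw [h6] at h7
  rw [show (MulAut.conj m * F) (g⁻¹ * y * g) * (g⁻¹ * y * g)⁻¹ = c⁻¹ * (c * m * F (g⁻¹ * y * g)) * m⁻¹ * (g⁻¹ * y * g)⁻¹ by
    rw [MulAut.mul_apply, MulAut.conj_apply]; group, h7, show _ * (g⁻¹ * y * g)⁻¹ = c⁻¹ * (g⁻¹ * y * g * c * (g⁻¹ * y * g)⁻¹) by group]
  exact mul_mem (inv_mem (X.S_le_cen _ hc)) (X.conj_mem_cen (Set.singleton_subset_iff.2 h4) hy'
    (mem_centralizer_singleton_iff.2 (conj_comm h2)) (X.S_le_cen _ hc))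

variable (X) in
/-- the coroot lattice modulo two -/
structure D4 : Prop where
  two : ∀ v, (2 : ℤ) • v ∈ LQ X
  ex : ∀ v ∈ LQ X, c2 v = c2 0 ∨ ∃ a, Lg X a ∧ ∃ q ∈ LQ X, X.cor a = v + (2 : ℤ) • q
  uq : ∀ a b, X.Rt a → X.Rt b → ∀ q ∈ LQ X, X.cor b = X.cor a + (2 : ℤ) • q → b = a ∨ b = -a

theorem fix_root (hp : p ≠ 2) (h : D4 X) (h3 : Tri X X.Mx) (ht : t ∈ X.T) (h1 : t * t = 1) (h0 : t ≠ 1) (h2 : F t = t) :
    ∃ a, Lg X a ∧ t = ct X a (-1) ∧ (X.g a = a ∨ X.g a = -a) := by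
  obtain ⟨u, rfl⟩ := Ex.exists_coch (ord_neg hp) Nat.prime_two ht ((sq t).trans h1)
  obtain ⟨v, hv⟩ := exists_lam hp h2
  have e : ∀ u v : X.R → ℤ, c2 (u + (2 : ℤ) • v) = c2 u := fun u v => c2_eq.2 fun i => ⟨-v i, by simp⟩
  have k1 : u + (2 : ℤ) • X.Mx *ᵥ v ∈ LQ X := by
    have := sub_mem (h3 u) (h.two (u + v + v))
    rw [hv, mulVec_add, hv, mulVec_smul] at this
    convert this using 1
    module
  rcases h.ex _ k1 with k2 | ⟨a, ha, q, hq, k2⟩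
  · exact (h0 (((coch_eq hp).2 ((e _ _).symm.trans k2)).trans (by rw [show coch 0 (-1 : kˣ) = 1 from funext fun _ => zpow_zero _, map_one]))).elim
  refine ⟨a, ha, (coch_eq hp).2 (by rw [k2, e, e]), ?_⟩
  obtain ⟨n, hn⟩ := (((Fact.out : p.Prime).odd_of_ne_two hp).natCast (R := ℤ)).pow (n := X.ex a)
  refine h.uq a _ ha.1 (X.g_root a ha.1) _ (sub_mem (sub_mem (add_mem (sub_mem (h3 v) (h.two (X.Mx *ᵥ v))) (Mx_LQ hq)) hq)
    (zsmul_mem (show _ ∈ LQ X from cor_cl (X.g_root a ha.1)) n)) ?_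
  have k3 := X.Mx_cor ha.1
  rw [hn, k2, mulVec_add, mulVec_add, hv, mulVec_smul, mulVec_smul, add_smul, one_smul] at k3
  rw [k2]
  linear_combination (norm := module) -k3

theorem conj_cor (hy : y ∈ G) (hN : y⁻¹ * F y ∈ X.NN) (ha : X.Rt a) : (X.conj hy hN).cor a = X.cor a := by
  obtain ⟨w, i, rfl⟩ := ha
  exact ((X.conj hy hN).cor_act_sr w i).trans ((congrArg (· *ᵥ X.cw i) (TO.E6.conj_Wm X hy hN w)).trans (X.cor_act_sr w i).symm)

theorem D4.conj (h : D4 X) (hy : y ∈ G) (hN : y⁻¹ * F y ∈ X.NN) : D4 (X.conj hy hN) :=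
  ⟨h.two, fun v hv => (h.ex v hv).imp_right fun ⟨a, ha, q, hq, e⟩ => ⟨a, ha, q, hq, (conj_cor hy hN ha.1).trans e⟩,
    fun a b ha hb q hq e => h.uq a b ha hb q hq (by rwa [conj_cor hy hN ha, conj_cor hy hN hb] at e)⟩

/-- **triality** -/
theorem geo_t (cz : CommZ X.cs X.h X.X) (hp : p ≠ 2) (h : Pi1 X 2) (h1 : D4 X) (h3 : Tri X X.Mx)
    (h4 : {x | x = 0 ∨ Rc X x}.ncard ≤ 4) : Geo X := geo_all cz hp (mc_tri hp h h3) (fun t ht k1 k2 => by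
  obtain ⟨g, hg, k3⟩ := tor_one (X := X) hp ht.1 k1
  obtain ⟨y, hy, hN, k4, -⟩ := SB.Exc.Max.exists_conj_le_T X (Z := {t}) (fun _ e => e ▸ ht.2) hg fun _ e => e ▸ k3
  obtain ⟨a, ha, k5, k6⟩ := fix_root (X := X.conj hy hN) hp (h1.conj hy hN) (h3.tw _) (k4 rfl) k1 k2 ht.2
  refine ⟨_, ⟨y, hy, a, ha, by rw [k5, ct, conj_cor hy hN ha.1, X.conj_tau, ct]; group, rfl⟩, fun z hz => ?_⟩
  rw [← X.conj_S hy hN] at hz ⊢
  refine (X.conj hy hN).F_mem_S (TO.G2D.rt_pair ha.1) ?_ hz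
  rintro _ (rfl | rfl)
  · exact k6
  · rw [(X.conj hy hN).g_neg ha.1]
    exact k6.symm.imp (fun e => by rw [e, neg_neg]) fun e => by rw [e]; rfl) h4

end Cfsg.Agent.KM.Ev
end

-- part: KM/Ev/Fr
section
/-!
# KM, `l = 2`, the adjoint frames: tools, `G₂`, `F₄`, `³D₄` (helper73)

`cz`, `g_id`, `cor_cv`, `lg_iff`, `rc_iff`, `uq_of`; **`tx_g2`, `tx_f4`, `tx_td4`**.
-/

set_option autoImplicit false
set_option linter.unusedSectionVars false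
set_option maxRecDepth 100000

namespace Cfsg.Agent.KM.Ev

open Cfsg Cfsg.Lie Matrix Finset Cfsg.Agent.DL Cfsg.Agent.KZ.DatX Cfsg.Agent.Nodes.RGDChev Cfsg.Agent.BpExc Cfsg.Agent.BpExc.Zc
  Cfsg.Agent.ChevalleyStructure.NPerm Cfsg.Agent.ChevalleyStructure.CoxeterGeom
  Cfsg.Agent.ChevalleyStructure.CoxeterGeomTypes Cfsg.Agent.Tits.Roots Cfsg.Agent.TO.X5 Cfsg.Agent.KM.Tor
open Cfsg.Agent.H92.NE (bl bl_apply bl_sr bl_sr_sr FormOK bl_rep)
open Cfsg.Agent.TO.X.Cn (Pi1 cl cl_add cl_smul mem_cen pi1 pm_G2 pm_F4 pm_D4)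
open Cfsg.Agent.KM.Ex (sr_dot TX)

section Dat

variable {p : ℕ} [Fact p.Prime] {k : Type} [Field k] [CharP k p] {Y : Type} [Group Y] {N : Type} [Fintype N]
  [DecidableEq N] {ρ : Y →* GL N k} {F : MulAut Y} {G : Subgroup Y} [IsAlgClosed k] {X : Datum p ρ F G}

theorem g_id {c : ℤ} (hc : 0 < c) (h : X.Mx = c • 1) {a : X.I → ℤ} (ha : X.Rt a) : X.g a = a :=
  (X.eq_g_of_ψ ha ha hc (X.wt_injective (by rw [X.wt_ψ, h, vecMul_smul, vecMul_one, map_zsmul]))).symm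

theorem geo_g (cz : CommZ X.cs X.h X.X) (hp : p ≠ 2) (h : Pi1 X 1) (uq : UQ X) (hg : ∀ a, Lg X a → Lg X (X.g a))
    (h1 : ∀ x, x ≠ 0 → Rc X x) (h4 : Nat.card (X.R → ZMod 2) = 4) : Geo X :=
  geo_all cz hp (mc_of h (Nat.coprime_one_right 2)) (fun t ht k1 k2 => by
    obtain ⟨g, k3, k4⟩ := tor_one (X := X) hp ht.1 k1
    obtain ⟨x, hx⟩ := exists_iw hp k4 k1
    exact ((ro_iff cz hp k3 hx).2 (h1 x fun e => k2 (cj_eq_one.1 (by rw [hx, e, iw_zero hp])))).imp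
      fun K hK => ⟨hK, hK.stable cz hp uq hg ht⟩) (h4 ▸ Set.ncard_le_card _)

theorem cc_iw (hp : p ≠ 2) {f : ℕ} (h : Pi1 X f) (hf : Nat.Coprime 2 f) (x : X.R → ZMod 2) : CC X {iw X x} :=
  fun _ hy hc => mem_cen h (iw_mem x) (iw_sq hp x) hf hy (Subgroup.mem_centralizer_singleton_iff.1 hc)

end Dat

theorem ncard_le {α : Type} [Fintype α] {P : α → Prop} [DecidablePred P] {m : ℕ} (h : #{x | P x} ≤ m) :
    {x | P x}.ncard ≤ m := by rwa [← Set.ncard_coe_finset, coe_filter_univ] at h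

variable {C : ChevalleyDatum} {n : ℕ} {M : CoxeterMatrix (Fin n)} {hp : IsType C n M} {r : ℕ} [Fact r.Prime] {k : Type}
  [Field k] [CharP k r] [IsAlgClosed k] {Mx : Matrix (Fin n) (Fin n) ℤ} (X : XF hp r k Mx)

theorem cz : CommZ X.D.cs X.D.h X.D.X := by
  show CommZ M.toCoxeterSystem hp.isCartan (KFacts.RgdChevCoord.XX C n k)
  intro x y hx hy hxy hxy' a ha b hb
  refine Nodes.BNOf.RGD.Sup_mono (S := CommZ.combZ M.toCoxeterSystem hp x y) ?_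
    (CommZ.comm_mem_Z hp M.toCoxeterSystem hx hy hxy hxy' ha hb)
  rintro z ⟨hz, i, j, hi, hj, e⟩
  exact ⟨hz, i, j, by exact_mod_cast hi, by exact_mod_cast hj, by rw [e, natCast_zsmul, natCast_zsmul]⟩

/-- the coroot of `a` -/
def cv (B : Fin n → Fin n → ℤ) (a : Fin n → ℤ) : Fin n → ℤ := fun j => 2 * (∑ i, B j i * a i) / ∑ i, ∑ j, a i * B i j * a j

theorem cor_cv {B : Fin n → Fin n → ℤ} (h : FormOK C n B) (h0 : ∀ i, B i i ≠ 0) (a : Fin n → ℤ) (ha : X.D.Rt a) :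
    X.D.cor a = cv B a := by
  obtain ⟨w, i, rfl⟩ := ha
  refine (X.D.cor_act_sr w i).trans (funext fun j => ?_)
  refine (sr_dot j _).symm.trans ((dot_Wm (X := X.D) w (sr j) _).trans (Eq.symm ?_))
  have e1 := (bl_sr j _).symm.trans ((H92.NE.bl_comm h.1 _ _).trans ((bl_rep hp h w⁻¹ _ _).symm.trans (Eq.trans
    (congrArg₂ (bl B · ·) rfl (rep_inv_apply ..)) (bl_sr (Bm := B) i (Ex.rp hp w⁻¹ (sr j))))))
  have e' := (bl_rep hp h w (sr i) (sr i)).trans (bl_sr_sr i i)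
  refine ((congrArg₂ (2 * · / ·) e1 e').trans (Int.ediv_eq_of_eq_mul_right (h0 i) ?_) :)
  rw [mul_sum, dotProduct, mul_sum]
  exact sum_congr rfl fun m _ => by rw [← mul_assoc, h.2 i m, mul_assoc, mul_comm (cartanOf C n i m)]; rfl

section

variable {cf : (Fin n → ℤ) → Fin n → ℤ} (hc : ∀ a, X.D.Rt a → X.D.cor a = cf a) {L : (Fin n → ℤ) → Prop}
  (hL : ∀ s : Fin C.nroots, (∀ t : Fin C.nroots, _root_.Cfsg.Agent.Nodes.RGDChev.vec C n t ≠ _root_.Cfsg.Agent.Nodes.RGDChev.vec C n s → _root_.Cfsg.Agent.Nodes.RGDChev.vec C n t ⬝ᵥ cf (_root_.Cfsg.Agent.Nodes.RGDChev.vec C n s) ≤ 1) ↔ L (_root_.Cfsg.Agent.Nodes.RGDChev.vec C n s))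
include hc hL

theorem lg_iff {a : Fin n → ℤ} (ha : X.D.Rt a) : Lg X.D a ↔ L a := by
  have e : ∀ c : Fin n → ℤ, Nodes.Coroot.cpr X.D.cs X.D.h c a = c ⬝ᵥ cf a := fun c => (X.D.pair_cor ha c).symm.trans (hc a ha ▸ rfl)
  refine Iff.trans ?_ (forall_rt X (Q := fun a => (∀ t : Fin C.nroots, _root_.Cfsg.Agent.Nodes.RGDChev.vec C n t ≠ a → _root_.Cfsg.Agent.Nodes.RGDChev.vec C n t ⬝ᵥ cf a ≤ 1) ↔ L a) hL a ha)
  exact ⟨fun h t ht => e _ ▸ h.2 _ (rt_vec X t) ht, fun h => ⟨ha, fun c hc h1 =>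
    (e c).trans_le (forall_rt X (Q := fun c => c ≠ a → c ⬝ᵥ cf a ≤ 1) h c hc h1)⟩⟩

theorem rc_iff {Q : (Fin n → ZMod 2) → Prop} (h1 : ∀ s : Fin C.nroots, L (_root_.Cfsg.Agent.Nodes.RGDChev.vec C n s) → Q (c2 (cf (_root_.Cfsg.Agent.Nodes.RGDChev.vec C n s))))
    (h2 : ∀ x, Q x → ∃ s : Fin C.nroots, L (_root_.Cfsg.Agent.Nodes.RGDChev.vec C n s) ∧ x = c2 (cf (_root_.Cfsg.Agent.Nodes.RGDChev.vec C n s))) (x : Fin n → ZMod 2) : Rc X.D x ↔ Q x :=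
  ⟨fun ⟨a, ha, e⟩ => e ▸ hc a ha.1 ▸ forall_rt X (Q := fun a => L a → Q (c2 (cf a))) h1 a ha.1 ((lg_iff X hc hL ha.1).1 ha),
    fun h => let ⟨s, h3, e⟩ := h2 x h; ⟨_, (lg_iff X hc hL (rt_vec X s)).2 h3, hc _ (rt_vec X s) ▸ e⟩⟩

theorem uq_of (h : ∀ s : Fin C.nroots, L (_root_.Cfsg.Agent.Nodes.RGDChev.vec C n s) → ∀ t : Fin C.nroots, L (_root_.Cfsg.Agent.Nodes.RGDChev.vec C n t) →
    c2 (cf (_root_.Cfsg.Agent.Nodes.RGDChev.vec C n s)) = c2 (cf (_root_.Cfsg.Agent.Nodes.RGDChev.vec C n t)) → _root_.Cfsg.Agent.Nodes.RGDChev.vec C n t = _root_.Cfsg.Agent.Nodes.RGDChev.vec C n s ∨ _root_.Cfsg.Agent.Nodes.RGDChev.vec C n t = -_root_.Cfsg.Agent.Nodes.RGDChev.vec C n s) : UQ X.D := fun a b ha hb e =>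
  forall_rt X (Q := fun b => L b → c2 (cf a) = c2 (cf b) → b = a ∨ b = -a) (forall_rt X (Q := fun a => L a → ∀ t : Fin C.nroots,
    L (_root_.Cfsg.Agent.Nodes.RGDChev.vec C n t) → c2 (cf a) = c2 (cf (_root_.Cfsg.Agent.Nodes.RGDChev.vec C n t)) → _root_.Cfsg.Agent.Nodes.RGDChev.vec C n t = a ∨ _root_.Cfsg.Agent.Nodes.RGDChev.vec C n t = -a) h a ha.1 ((lg_iff X hc hL ha.1).1 ha)) b hb.1
    ((lg_iff X hc hL hb.1).1 hb) (hc a ha.1 ▸ hc b hb.1 ▸ e)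

end

theorem lg_g {e : ℕ} (X : XF hp r k ((r : ℤ) ^ e • 1)) (a : Fin n → ℤ) (ha : Lg X.D a) : Lg X.D (X.D.g a) :=
  (g_id (pow_pos (Int.natCast_pos.2 (Fact.out : r.Prime).pos) e) rfl ha.1).symm ▸ ha

/-! ### `G₂` -/

theorem tx_g2 : TX hpG2 1 2 := fun r e _ k _ _ _ X _ h2 => by
  have hc := cor_cv X H931.KC.ok_G2.1 (by decide)
  have hL : ∀ s : Fin chevG2.nroots, (∀ t : Fin chevG2.nroots, _root_.Cfsg.Agent.Nodes.RGDChev.vec chevG2 2 t ≠ _root_.Cfsg.Agent.Nodes.RGDChev.vec chevG2 2 s →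
    _root_.Cfsg.Agent.Nodes.RGDChev.vec chevG2 2 t ⬝ᵥ cv ![![2, -3], ![-3, 6]] (_root_.Cfsg.Agent.Nodes.RGDChev.vec chevG2 2 s) ≤ 1) ↔ 3 ∣ _root_.Cfsg.Agent.Nodes.RGDChev.vec chevG2 2 s 0 := by decide +kernel
  exact (geo_g (cz X) h2.symm (pi1 X pm_G2) (uq_of X hc (L := fun a => 3 ∣ a 0) hL (by decide +kernel)) (lg_g X)
    (fun x => (rc_iff X hc (L := fun a => 3 ∣ a 0) hL (Q := (· ≠ 0)) (by decide +kernel) (by decide +kernel) x).2)
    (Nat.card_eq_fintype_card.trans rfl)).torB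

/-! ### `F₄` -/

/-- the invariant form -/
def BF : Fin 4 → Fin 4 → ℤ := ![![2, -1, 0, 0], ![-1, 2, -2, 0], ![0, -2, 4, -2], ![0, 0, -2, 4]]

/-- long roots -/
abbrev LF (a : Fin 4 → ℤ) : Prop := 2 ∣ a 0 ∧ 2 ∣ a 1

/-- root classes -/
abbrev QF (x : Fin 4 → ZMod 2) : Prop := ¬ (x 2 = 0 ∧ x 3 = 0)

theorem lF : ∀ s : Fin chevF4.nroots, (∀ t : Fin chevF4.nroots, _root_.Cfsg.Agent.Nodes.RGDChev.vec chevF4 4 t ≠ _root_.Cfsg.Agent.Nodes.RGDChev.vec chevF4 4 s →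
    _root_.Cfsg.Agent.Nodes.RGDChev.vec chevF4 4 t ⬝ᵥ cv BF (_root_.Cfsg.Agent.Nodes.RGDChev.vec chevF4 4 s) ≤ 1) ↔ LF (_root_.Cfsg.Agent.Nodes.RGDChev.vec chevF4 4 s) := by (delta Cfsg.Agent.Nodes.RGDChev.vec Cfsg.Agent.KM.Ev.cv Cfsg.Agent.KM.Ev.LF Cfsg.Agent.ChevalleyStructure.RootVec.rt; set_option synthInstance.maxSize 100000 in exact Cfsg.Agent.Lib.Refl.of (by decide +kernel))

theorem spF : ∀ j : Fin 4, ∃ s : Fin chevF4.nroots, (∀ x, ¬ QF x → c2 (_root_.Cfsg.Agent.Nodes.RGDChev.vec chevF4 4 s) ⬝ᵥ x = 0) ∧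
    cv BF (_root_.Cfsg.Agent.Nodes.RGDChev.vec chevF4 4 s) = ![![0, 0, -1, 2], ![0, -1, 2, -1], ![-1, 1, 0, -1], ![1, 0, 0, -1]] j := by (delta Cfsg.Agent.KM.Ev.QF Cfsg.Agent.Nodes.RGDChev.vec Cfsg.Agent.KM.Ev.cv Cfsg.Agent.ChevalleyStructure.RootVec.rt; set_option synthInstance.maxSize 100000 in exact Cfsg.Agent.Lib.Refl.of (by decide +kernel))

set_option synthInstance.maxSize 2000 in
theorem latF : (∀ x y z : Fin 4 → ZMod 2, ¬ QF x → ¬ QF y → ¬ QF (x + y) → x ≠ 0 → y ≠ 0 → y ≠ x → ¬ QF z →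
    ¬ QF (x + z) → ¬ QF (y + z) → ¬ QF (x + y + z) → z = 0 ∨ z = x ∨ z = y ∨ z = x + y) ∧
    (∀ x y : Fin 4 → ZMod 2, ¬ QF x → ¬ QF y → ¬ QF (x + y)) ∧ (∀ x y z : Fin 4 → ZMod 2, QF x → QF y → QF (x + y) → QF z →
      QF (x + z) → QF (y + z) → ¬ QF (x + y + z)) ∧ ¬ QF 0 :=
  ⟨by (delta Cfsg.Agent.KM.Ev.QF; set_option synthInstance.maxSize 100000 in exact Cfsg.Agent.Lib.Refl.of (by decide +kernel)), by decide +kernel, by (delta Cfsg.Agent.KM.Ev.QF; set_option synthInstance.maxSize 100000 in exact Cfsg.Agent.Lib.Refl.of (by decide +kernel)), by decide +kernel⟩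

theorem tx_f4 : TX hpF4 1 2 := fun r e _ k _ _ _ X _ h2 => by
  have hc : ∀ a, X.D.Rt a → X.D.cor a = cv BF a := cor_cv X H931.KC.ok_F4.1 (by decide)
  have hr := rc_iff X hc lF (Q := QF) (by decide +kernel) (by (delta Cfsg.Agent.KM.Ev.QF Cfsg.Agent.KM.Ev.LF; set_option synthInstance.maxSize 100000 in exact Cfsg.Agent.Lib.Refl.of (by decide +kernel)))
  have e : Rc X.D = QF := funext fun x => propext (hr x)
  refine (geo_f (cz X) h2.symm (pi1 X pm_F4) (Nat.coprime_one_right 2) (uq_of X hc lF (by (set_option synthInstance.maxSize 100000 in exact Cfsg.Agent.Lib.Refl.of (by decide +kernel)))) (lg_g X)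
    (e ▸ latF.2.2.2) (fun x y hx => cc_sub (iw_mem x) (cc_iw h2.symm (pi1 X pm_F4) (Nat.coprime_one_right 2) x)
      (fun (v : Fin 4 → ℤ) => ?_) (iw_mem y)) (by unfold P3; rw [e]; exact latF.1) (zcs X 2) (e ▸ latF.2.1)
      (forall_rt X fun s => ncard_le (P := fun x => c2 (_root_.Cfsg.Agent.Nodes.RGDChev.vec chevF4 4 s) ⬝ᵥ x = 0) (by revert s; (delta Cfsg.Agent.Nodes.RGDChev.vec Cfsg.Agent.ChevalleyStructure.RootVec.rt; set_option synthInstance.maxSize 100000 in exact Cfsg.Agent.Lib.Refl.of (by decide +kernel))))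
      (e ▸ latF.2.2.1)).torB
  have h3 : ∀ j : Fin 4, ![![0, 0, -1, 2], ![0, -1, 2, -1], ![-1, 1, 0, -1], ![1, 0, 0, -1]] j ∈
      AddSubgroup.closure (X.D.cor '' X.D.Sz {iw X.D x}) := fun j =>
    let ⟨s, h3, h4⟩ := spF j
    AddSubgroup.subset_closure ⟨_, ⟨rt_vec X s, fun _ e' => e' ▸ (χ_iw h2.symm _ x).2 (h3 x (e ▸ hx))⟩, (hc _ (rt_vec X s)).trans h4⟩
  have h4 : v = (2 * v 0 + 4 * v 1 + 3 * v 2 + 2 * v 3) • ![0, 0, -1, 2] + (v 0 + 2 * v 1 + 2 * v 2 + v 3) • ![0, -1, 2, -1] +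
      ((v 0 + 3 * v 1 + 2 * v 2 + v 3) • ![-1, 1, 0, -1] + (2 * v 0 + 3 * v 1 + 2 * v 2 + v 3) • ![1, 0, 0, -1]) := by
    funext i
    (revert i; simp only [_root_.Fin.forall_fin_succ, _root_.Nat.succ_eq_add_one, Nat.reduceAdd, Fin.isValue, Int.reduceNeg, _root_.Matrix.smul_cons, _root_.Int.zsmul_eq_mul, _root_.MulZeroClass.mul_zero, _root_.mul_neg, _root_.mul_one, _root_.neg_add_rev, _root_.Matrix.smul_empty, _root_.Matrix.add_cons, _root_.Matrix.head_cons, _root_.add_zero, _root_.Matrix.tail_cons, _root_.zero_add, _root_.Matrix.empty_add_empty, _root_.Pi.add_apply, _root_.Matrix.cons_val_zero, _root_.Matrix.cons_val_succ, _root_.Fin.succ_zero_eq_one, _root_.Fin.succ_one_eq_two, _root_.Matrix.cons_val_fin_one, Fin.reduceSucc, _root_.IsEmpty.forall_iff, _root_.and_true]) <;> (repeat' with_reducible apply And.intro) <;> ring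
  exact h4 ▸ add_mem (add_mem (zsmul_mem (h3 0) _) (zsmul_mem (h3 1) _)) (add_mem (zsmul_mem (h3 2) _) (zsmul_mem (h3 3) _))

/-! ### simply laced types -/

theorem cl_co (β : Fin n → ℤ) : cl X.D β = co C n β := funext fun _ => Finset.sum_apply _ _ _

theorem lg_all (h : SL C n) (hL : ∀ s : Fin C.nroots, (∀ t : Fin C.nroots, _root_.Cfsg.Agent.Nodes.RGDChev.vec C n t ≠ _root_.Cfsg.Agent.Nodes.RGDChev.vec C n s →
    _root_.Cfsg.Agent.Nodes.RGDChev.vec C n t ⬝ᵥ co C n (_root_.Cfsg.Agent.Nodes.RGDChev.vec C n s) ≤ 1) ↔ True) {a : Fin n → ℤ} (ha : X.D.Rt a) : Lg X.D a :=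
  (lg_iff X (fun _ => cor_eq X h) (L := fun _ => True) hL ha).2 trivial

/-! ### `³D₄` -/

theorem co_D4 (β : Fin 4 → ℤ) :
    co chevD4 4 β = ![2 * β 0 - β 1, 2 * β 1 - β 0 - β 2 - β 3, 2 * β 2 - β 1, 2 * β 3 - β 1] := by
  have h : cartanOf chevD4 4 = ![![2, -1, 0, 0], ![-1, 2, -1, -1], ![0, -1, 2, 0], ![0, -1, 0, 2]] := by decide +kernel
  funext i
  (revert i; simp only [co, h, Fin.sum_univ_four, _root_.Fin.forall_fin_succ, _root_.Nat.succ_eq_add_one, Nat.reduceAdd, Int.reduceNeg, _root_.Matrix.cons_val', _root_.Matrix.cons_val_fin_one, Fin.isValue, _root_.Matrix.cons_val_zero, _root_.Matrix.cons_val_one, _root_.Matrix.cons_val, _root_.mul_neg, _root_.mul_one, _root_.MulZeroClass.mul_zero, _root_.add_zero, _root_.Matrix.cons_val_succ, _root_.zero_add, _root_.forall_const]) <;> (repeat' with_reducible apply And.intro) <;> ring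

theorem lq_iff {Mx : Matrix (Fin 4) (Fin 4) ℤ} (X : XF hpD4 r k Mx) (v : Fin 4 → ℤ) :
    v ∈ LQ X.D ↔ 2 ∣ v 0 + v 2 ∧ 2 ∣ v 0 + v 3 := by
  refine ⟨fun ⟨β, h⟩ => ?_, fun ⟨⟨a, h1⟩, b, h2⟩ => ⟨![a + b + v 1, v 0 + v 2 + v 3 + 2 * v 1, v 1 + v 2 + b,
    v 1 + v 3 + a], Eq.trans (funext fun i => ?_) ((cl_co X _).trans (co_D4 _)).symm⟩⟩
  · rw [h.trans ((cl_co X β).trans (co_D4 β))]
    simp only [_root_.Nat.succ_eq_add_one, _root_.Nat.reduceAdd, _root_.Fin.isValue, _root_.Matrix.cons_val_zero, _root_.Matrix.cons_val]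
    omega
  · (revert i; simp only [_root_.Fin.forall_fin_succ, _root_.Nat.succ_eq_add_one, Nat.reduceAdd, Fin.isValue, _root_.Matrix.cons_val_zero, _root_.Matrix.cons_val_one, _root_.Matrix.cons_val, _root_.Matrix.cons_val_succ, _root_.Fin.succ_zero_eq_one, _root_.Fin.succ_one_eq_two, _root_.Matrix.cons_val_fin_one, Fin.reduceSucc, _root_.IsEmpty.forall_iff, _root_.and_true]) <;> (repeat' with_reducible apply And.intro) <;> omega

theorem lD : ∀ s : Fin chevD4.nroots, (∀ t : Fin chevD4.nroots, _root_.Cfsg.Agent.Nodes.RGDChev.vec chevD4 4 t ≠ _root_.Cfsg.Agent.Nodes.RGDChev.vec chevD4 4 s →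
    _root_.Cfsg.Agent.Nodes.RGDChev.vec chevD4 4 t ⬝ᵥ co chevD4 4 (_root_.Cfsg.Agent.Nodes.RGDChev.vec chevD4 4 s) ≤ 1) ↔ True := by (delta Cfsg.Agent.Nodes.RGDChev.vec Cfsg.Agent.KM.Tor.co Cfsg.Agent.ChevalleyStructure.RootVec.rt; set_option synthInstance.maxSize 100000 in exact Cfsg.Agent.Lib.Refl.of (by decide +kernel))

theorem exD : ∀ z : Fin 4 → ZMod 2, c2 (co chevD4 4 fun i => ((z i).val : ℤ)) = c2 0 ∨
    ∃ s : Fin chevD4.nroots, z = c2 (_root_.Cfsg.Agent.Nodes.RGDChev.vec chevD4 4 s) := by decide +kernel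

theorem uqD : ∀ s t : Fin chevD4.nroots, ∀ i ∈ ({(co chevD4 4 (_root_.Cfsg.Agent.Nodes.RGDChev.vec chevD4 4 t) - co chevD4 4 (_root_.Cfsg.Agent.Nodes.RGDChev.vec chevD4 4 s))} : Finset _),
    (∀ j, 2 ∣ i j) → 4 ∣ i 0 + i 2 → 4 ∣ i 0 + i 3 → _root_.Cfsg.Agent.Nodes.RGDChev.vec chevD4 4 t = _root_.Cfsg.Agent.Nodes.RGDChev.vec chevD4 4 s ∨ _root_.Cfsg.Agent.Nodes.RGDChev.vec chevD4 4 t = -_root_.Cfsg.Agent.Nodes.RGDChev.vec chevD4 4 s := by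
  (set_option synthInstance.maxSize 100000 in exact Cfsg.Agent.Lib.Refl.of (by decide +kernel))

theorem d4 {Mx : Matrix (Fin 4) (Fin 4) ℤ} (X : XF hpD4 r k Mx) : D4 X.D := by
  have hS : SL chevD4 4 := by decide +kernel
  have e : ∀ β γ : X.D.I → ℤ, c2 β = c2 γ → ∃ q ∈ LQ X.D, cl X.D γ = cl X.D β + (2 : ℤ) • q := fun β γ h => by
    choose δ hδ using c2_eq.1 h
    exact ⟨_, ⟨δ, rfl⟩, by rw [← cl_smul, ← cl_add]; exact congrArg _ (funext fun i => eq_add_of_sub_eq' (hδ i))⟩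
  refine ⟨fun (v : Fin 4 → ℤ) => (lq_iff X _).2 ⟨⟨v 0 + v 2, (mul_add 2 _ _).symm⟩, v 0 + v 3, (mul_add 2 _ _).symm⟩, ?_,
    fun a b ha hb (q : Fin 4 → ℤ) hq h => ?_⟩
  · rintro _ ⟨β, rfl⟩
    refine (exD (c2 β)).imp (fun h => ?_) fun ⟨s, h⟩ => ⟨_, lg_all X hS lD (rt_vec X s), (cor_eq X hS (rt_vec X s)).symm ▸ e β _ h⟩
    obtain ⟨q, -, h1⟩ := e β _ (c2_val (c2 β)).symm
    exact Eq.trans (c2_eq.2 fun i => ⟨q i, sub_eq_of_eq_add' (congrFun h1 i)⟩) h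
  · obtain ⟨s, hs, rfl⟩ := (X.rt_iff a).1 ha
    obtain ⟨t, ht, rfl⟩ := (X.rt_iff b).1 hb
    have h1 := sub_eq_of_eq_add' ((cor_eq X hS hb).symm.trans (h.trans (congrArg (· + (2 : ℤ) • q) (cor_eq X hS ha))))
    obtain ⟨⟨x, hx⟩, y, hy⟩ := (lq_iff X q).1 hq
    refine uqD ⟨s, hs⟩ ⟨t, ht⟩ _ (mem_singleton.2 h1.symm) (fun j => ⟨q j, rfl⟩) ⟨x, ?_⟩ ⟨y, ?_⟩ <;>
      simp only [Pi.smul_apply, smul_eq_mul] <;> omega

theorem tx_td4 : TX hpD4 P4 2 := fun r e _ k _ _ _ X _ h2 => by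
  have hr := rc_iff X (fun _ => cor_eq X (by decide +kernel)) (L := fun _ => True) lD
    (Q := fun x => x ≠ 0 ∧ x 0 = x 2 ∧ x 0 = x 3) (by decide +kernel) (by decide +kernel)
  refine (geo_t (cz X) h2.symm (pi1 X pm_D4) (d4 X) (fun (μ : Fin 4 → ℤ) => (lq_iff X _).2 ?_) ((Set.ncard_le_ncard
    (fun x hx => hx.imp_right (hr x).1) (Set.toFinite _)).trans (ncard_le
      (P := fun x : Fin 4 → ZMod 2 => x = 0 ∨ x ≠ 0 ∧ x 0 = x 2 ∧ x 0 = x 3) (by decide +kernel)))).torB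
  obtain ⟨m, hm⟩ := (((Fact.out : r.Prime).odd_of_ne_two h2.symm).natCast (R := ℤ)).pow (n := e)
  have h3 : ∀ v : Fin 4 → ℤ, ((r : ℤ) ^ e • P4) *ᵥ v = (2 * m + 1) • ![v 3, v 1, v 0, v 2] := fun v => by
    have h : P4 = !![0, 0, 0, 1; 0, 1, 0, 0; 1, 0, 0, 0; 0, 0, 1, 0] := by decide +kernel
    rw [smul_mulVec, hm, h]
    congr 1
    funext i
    (revert i; simp only [mulVec, dotProduct, Fin.sum_univ_four, _root_.Fin.forall_fin_succ, _root_.Matrix.of_apply, _root_.Matrix.cons_val', _root_.Matrix.cons_val_fin_one, Fin.isValue, _root_.Matrix.cons_val_zero, _root_.Matrix.cons_val_one, _root_.Matrix.cons_val, _root_.Nat.succ_eq_add_one, Nat.reduceAdd, _root_.MulZeroClass.zero_mul, _root_.add_zero, _root_.one_mul, _root_.zero_add, _root_.Matrix.cons_val_succ, _root_.implies_true, _root_.and_self])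
  have h4 : ∀ v : Fin 4 → ℤ, v = μ + ((r : ℤ) ^ e • P4) *ᵥ μ + ((r : ℤ) ^ e • P4) *ᵥ ((r : ℤ) ^ e • P4) *ᵥ μ →
      2 ∣ v 0 + v 2 ∧ 2 ∣ v 0 + v 3 := fun v hv => by
    rw [hv, h3, h3]
    simp only [vecHead, vecTail, _root_.Nat.succ_eq_add_one, _root_.Nat.reduceAdd, _root_.Fin.isValue, _root_.Matrix.smul_cons, _root_.Int.zsmul_eq_mul, _root_.Matrix.smul_empty, _root_.Matrix.add_cons, _root_.Function.comp_apply, _root_.Fin.succ_zero_eq_one, _root_.Fin.succ_one_eq_two, _root_.Fin.reduceSucc, _root_.Matrix.empty_add_empty, _root_.Pi.smul_apply, _root_.Matrix.cons_val, _root_.Matrix.cons_val_one, _root_.Matrix.cons_val_zero, _root_.Pi.add_apply]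
    exact ⟨⟨μ 0 + μ 2 + μ 3 + m * (μ 0 + μ 3) + (2 * m * m + 2 * m) * (μ 2 + μ 3), by ring⟩,
      μ 0 + μ 2 + μ 3 + m * (μ 2 + μ 3) + (2 * m * m + 2 * m) * (μ 2 + μ 0), by ring⟩
  exact h4 _ rfl

end Cfsg.Agent.KM.Ev
end
end

-- part: KM/Ev/E6X
section
prune_inst 0x10003104640000000800000202002664a00000020028880169c002000f09a7038001810016401210015422280000002000000059401000000a00860040000000048110063000a00000000600c804000000000000000000000000000000000000000000000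
set_option linter.all false
open scoped Cfsg.Agent.FastGrp

/-!
# KM, `l = 2`, `E₆` and `²E₆` (helper73)

`geo_e6`, **`te6 : Sc.TE6 2`, `tt6 : Sc.TT6 2`**.
-/

set_option autoImplicit false
set_option linter.unusedSectionVars false
set_option maxRecDepth 100000

namespace Cfsg.Agent.KM.Ev

open Cfsg Cfsg.Lie Matrix Finset Cfsg.Agent.DL Cfsg.Agent.KZ.DatX Cfsg.Agent.Nodes.RGDChev
  Cfsg.Agent.ChevalleyStructure.NPerm Cfsg.Agent.TO.X5 Cfsg.Agent.KM.Tor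
open Cfsg.Agent.H931.KC (hr)
open Cfsg.Agent.TO.X.Cn (pi1 pm_E6)

/-- the invariant quadratic form modulo two -/
def q6 (x : Fin 6 → ZMod 2) : ZMod 2 := x 1 * (1 + x 0 + x 3 + x 5) + x 2 * (1 + x 0) + x 3 + x 4 * (1 + x 5)

/-- bits -/
def b6 (n : ℕ) : Fin 6 → ZMod 2 := fun i => if n.testBit i then 1 else 0

theorem b6_xor (m n : ℕ) : b6 (m ^^^ n) = b6 m + b6 n := funext fun i => by
  simp only [b6, Nat.testBit_xor, Pi.add_apply]
  cases m.testBit i <;> cases n.testBit i <;> rfl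

private def en (x : Fin 6 → ZMod 2) : ℕ :=
  (x 0).val + 2 * (x 1).val + 4 * (x 2).val + 8 * (x 3).val + 16 * (x 4).val + 32 * (x 5).val

private theorem en_spec : ∀ a b c d e f : ZMod 2, en ![a, b, c, d, e, f] < 64 ∧ b6 (en ![a, b, c, d, e, f]) 0 = a ∧
    b6 (en ![a, b, c, d, e, f]) 1 = b ∧ b6 (en ![a, b, c, d, e, f]) 2 = c ∧ b6 (en ![a, b, c, d, e, f]) 3 = d ∧
    b6 (en ![a, b, c, d, e, f]) 4 = e ∧ b6 (en ![a, b, c, d, e, f]) 5 = f := by decide +kernel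

theorem b6_surj : ∀ x, ∃ n : Fin 64, b6 n = x := fun x => by
  obtain ⟨h, h0, h1, h2, h3, h4, h5⟩ := en_spec (x 0) (x 1) (x 2) (x 3) (x 4) (x 5)
  refine ⟨⟨_, h⟩, funext fun i => ?_⟩
  fin_cases i
  exacts [h0, h1, h2, h3, h4, h5]

theorem b6_q : ∀ n < 64, q6 (b6 n) = 1 ↔ Nat.testBit 16994592510467319572 n := by decide +kernel

theorem sl6 : SL chevE6 6 := by decide +kernel

private def gz (T s i : ℕ) : ℤ := Int.subNatNat (Nat.land (Nat.shiftRight T (Nat.mul 4 (Nat.add (Nat.mul 6 s) i))) 15) 8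
private def nb (T s : ℕ) : ℕ := Nat.land (Nat.shiftRight T (Nat.mul 6 s)) 63
private def tV : ℕ := nat_lit 0x9abaa99aba999aaa9999aa9989aa999aa99999a99989a9999999998999998899999999898999898899898889898888899aa99899a99889a998999998899998889998999898899898889898888898999988899988889988888988999888899888889888998888898888988888788888878888778888887888877888777888888788887788877788777788888878887878877878777878887778877778777778876778776778766778888887888787887787877787777787887777877777777777876777776777766777876677776677766677765677765667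
private def tC : ℕ := nat_lit 0x88889888987889798897898878898889878997978978978998789979789987889998887979887987987988798988878a8988879798877898879879977979978789979887987987988797988878a8988977798977879977887a8798977879977887a7789978887a7888a78888698888969888779888896998977998787998889689897799978799788799889868897978978978788978898779979779789779987889797889878889888986889787897897978897788897898877979877789877987987797987878987988788798788879788887898888878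
private def bV : ℕ := nat_lit 0xa6b8f34e7dd7fdf3fd74d1419b65be78ee9a282f1c304e18230420810c0863810c73c08a6ba39ef96da604535df4f7ff5f79d3ce3ae9
private def bC : ℕ := nat_lit 0x8a734915f6dafb4e3cdb344479a6ffd79b67889f77c9bbe5b8a10428e16fae25fde721eda65ffbe9e5110d6f38d3eebb7d564d1c282
private def tb (n : ℕ) : Bool := Nat.testBit 16994592510467319572 n
private def tc (n : ℕ) : Bool := Nat.beq (Nat.land 1 (Nat.shiftRight 16994592510467319572 n)) 1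
private theorem tc_eq (n : ℕ) : tc n = tb n := by
  show Nat.beq (1 &&& 16994592510467319572 >>> n) 1 = (1 &&& 16994592510467319572 >>> n != 0)
  rcases Nat.le_one_iff_eq_zero_or_eq_one.1 (Nat.and_le_left (n := 1) (m := 16994592510467319572 >>> n)) with e | e <;> rw [e] <;> rfl
private def pb (n : ℕ) : Bool := Nat.testBit 7608434000728254870 n
private def al (n : ℕ) (p : ℕ → Bool) : Bool := (List.range n).all p
private theorem al_of {n : ℕ} {p : ℕ → Bool} (h : al n p = true) {k : ℕ} (hk : k < n) : p k = true :=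
  List.all_eq_true.1 h k (List.mem_range.2 hk)

private theorem hv : ∀ s : Fin chevE6.nroots, ∀ i : Fin 6, vec chevE6 6 s i = gz tV s i := by decide +kernel
private theorem hc0 : ∀ s : Fin chevE6.nroots, ∀ j : Fin 6, ∑ i : Fin 6, gz tV s i * ChevalleyStructure.CoxeterGeomTypes.cartanOf chevE6 6 i j = gz tC s j := by decide +kernel
private theorem hc (s : Fin chevE6.nroots) (j : Fin 6) : co chevE6 6 (vec chevE6 6 s) j = gz tC s j :=
  (sum_congr rfl fun i _ => congrArg (· * _) (hv s i)).trans (hc0 s j)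
private theorem hb0 : ∀ s : Fin chevE6.nroots, ∀ i : Fin 6, ((gz tV s i : ℤ) : ZMod 2) = b6 (nb bV s) i ∧
    ((gz tC s i : ℤ) : ZMod 2) = b6 (nb bC s) i := by decide +kernel
private theorem hbv (s : Fin chevE6.nroots) : c2 (vec chevE6 6 s) = b6 (nb bV s) :=
  funext fun i => (congrArg Int.cast (hv s i)).trans (hb0 s i).1
private theorem hbc (s : Fin chevE6.nroots) : c2 (co chevE6 6 (vec chevE6 6 s)) = b6 (nb bC s) :=
  funext fun i => (congrArg Int.cast (hc s i)).trans (hb0 s i).2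
private theorem nb_lt (T s : ℕ) : nb T s < 2 ^ 6 := Nat.lt_succ_of_le Nat.and_le_right
private theorem b6_sum : ∀ k < 64, ∑ i, b6 k i = 0 ↔ pb k = false := by decide +kernel
private theorem b6_dot (T s n : ℕ) : b6 (nb T s) ⬝ᵥ b6 n = 0 ↔ pb (Nat.land (nb T s) n) = false := by
  refine Iff.trans (Eq.congr_left (sum_congr rfl fun i _ => ?_)) (b6_sum _ (Nat.and_le_left.trans_lt (nb_lt T s)))
  show (if _ then (1 : ZMod 2) else 0) * (if _ then 1 else 0) = if (nb T s &&& n).testBit i = true then 1 else 0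
  rw [Nat.testBit_and]
  cases (nb T s).testBit i <;> cases n.testBit i <;> rfl

private theorem l6n : al 72 (fun s => al 72 fun t => Nat.beq t s || decide (Int.le (((((((gz tV t 0).mul (gz tC s 0)).add
    ((gz tV t 1).mul (gz tC s 1))).add ((gz tV t 2).mul (gz tC s 2))).add ((gz tV t 3).mul (gz tC s 3))).add
    ((gz tV t 4).mul (gz tC s 4))).add ((gz tV t 5).mul (gz tC s 5))) 1) (h := Int.decLe _ _)) = true := by decide +kernel

theorem l6 : ∀ s : Fin chevE6.nroots, (∀ t : Fin chevE6.nroots, vec chevE6 6 t ≠ vec chevE6 6 s →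
    vec chevE6 6 t ⬝ᵥ co chevE6 6 (vec chevE6 6 s) ≤ 1) ↔ True := fun s => iff_true_intro fun t h => by
  rcases Bool.or_eq_true_iff.1 (al_of (al_of l6n s.2) t.2) with e | e
  · exact absurd (congrArg (vec chevE6 6) (Nat.eq_of_beq_eq_true e)) h
  · refine le_of_eq_of_le ((sum_congr rfl fun i _ => congrArg₂ (· * ·) (hv t i) (hc s i)).trans ?_) (of_decide_eq_true e)
    exact Fin.sum_univ_six _

private theorem q6r : al 72 (fun s => tb (nb bC s)) = true := by decide +kernel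

theorem q6_root : ∀ s : Fin chevE6.nroots, True → q6 (c2 (co chevE6 6 (vec chevE6 6 s))) = 1 := fun s _ =>
  (congrArg q6 (hbc s)).trans ((b6_q _ (nb_lt _ _)).2 (al_of q6r s.2))

private theorem q6e : al 64 (fun n => !tb n || (List.range 72).any fun s => Nat.beq n (nb bC s)) = true := by decide +kernel

theorem q6_ex : ∀ x, q6 x = 1 → ∃ s : Fin chevE6.nroots, True ∧ x = c2 (co chevE6 6 (vec chevE6 6 s)) := fun x h => by
  obtain ⟨⟨n, hn⟩, rfl⟩ := b6_surj x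
  rcases Bool.or_eq_true_iff.1 (al_of q6e hn) with e | e
  · exact absurd ((b6_q n hn).1 h) (Bool.eq_false_iff.1 ((Bool.not_eq_true' _).mp e))
  · obtain ⟨s, hs, e⟩ := List.any_eq_true.1 e
    exact ⟨⟨s, List.mem_range.1 hs⟩, trivial, (congrArg b6 (Nat.eq_of_beq_eq_true e)).trans (hbc ⟨s, List.mem_range.1 hs⟩).symm⟩

private theorem b6_en : ∀ n < 64, en (b6 n) = n := by decide +kernel

private theorem uqn : al 72 (fun s => al 72 fun t => !Nat.beq (nb bC s) (nb bC t) || Nat.beq t s ||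
    al 6 fun i => decide (gz tV t i = -gz tV s i)) = true := by decide +kernel

theorem uq6 : ∀ s : Fin chevE6.nroots, True → ∀ t : Fin chevE6.nroots, True → c2 (co chevE6 6 (vec chevE6 6 s)) =
    c2 (co chevE6 6 (vec chevE6 6 t)) → vec chevE6 6 t = vec chevE6 6 s ∨ vec chevE6 6 t = -vec chevE6 6 s := fun s _ t _ h => by
  have h1 : nb bC s = nb bC t := (b6_en _ (nb_lt _ _)).symm.trans
    ((congrArg en ((hbc s).symm.trans (h.trans (hbc t)))).trans (b6_en _ (nb_lt _ _)))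
  rcases Bool.or_eq_true_iff.1 (al_of (al_of uqn s.2) t.2) with e | e
  · rcases Bool.or_eq_true_iff.1 e with e | e
    · exact absurd h1 (Nat.ne_of_beq_eq_false ((Bool.not_eq_true' _).mp e))
    · exact Or.inl (congrArg (vec chevE6 6) (Nat.eq_of_beq_eq_true e))
  · exact Or.inr (funext fun i => (hv t i).trans ((of_decide_eq_true (al_of e i.2)).trans (congrArg Neg.neg (hv s i).symm)))

private theorem qan : al 72 (fun s => al 64 fun n => pb (Nat.land (nb bV s) n) || (tb (Nat.xor n (nb bC s)) == !tb n)) = true := by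
  decide +kernel

theorem q6_add : ∀ s : Fin chevE6.nroots, ∀ x, c2 (vec chevE6 6 s) ⬝ᵥ x = 0 →
    (q6 (x + c2 (co chevE6 6 (vec chevE6 6 s))) = 1 ↔ ¬ q6 x = 1) := fun s x h => by
  obtain ⟨⟨n, hn⟩, rfl⟩ := b6_surj x
  rw [hbv, b6_dot] at h
  rw [hbc, ← b6_xor, b6_q _ (Nat.xor_lt_two_pow (n := 6) hn (nb_lt _ _)), b6_q n hn]
  have e := (Bool.or_eq_true_iff.1 (al_of (al_of qan s.2) hn)).resolve_left (Bool.eq_false_iff.1 h)
  exact (Eq.congr_left (beq_iff_eq.1 e)).trans (Bool.not_eq_true' _ ▸ Bool.eq_false_iff)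

private theorem qcn : ∀ n < 64, tb n = false → 32 < #{s : Fin chevE6.nroots | pb (Nat.land (nb bV s) n) = false} := by
  decide +kernel

theorem q6_cnt : ∀ x, ¬ q6 x = 1 → 32 < #{s : Fin chevE6.nroots | c2 (vec chevE6 6 s) ⬝ᵥ x = 0} := fun x h => by
  obtain ⟨⟨n, hn⟩, rfl⟩ := b6_surj x
  exact (qcn n hn (Bool.eq_false_iff.2 ((b6_q n hn).not.1 h))).trans_eq
    (congrArg card (filter_congr fun s _ => ((Eq.congr_left (congrArg (· ⬝ᵥ b6 n) (hbv s))).trans (b6_dot _ _ _)).symm))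

theorem rs_cnt : ∀ s : Finset (Fin 6), s.Nonempty → (∀ i ∈ s, ((2 : ℕ) : ℤ) ∣ hr chevE6 6 i) →
    #{t : Fin chevE6.nroots | RS chevE6 6 s (vec chevE6 6 t)} ≤ 32 := by decide +kernel

theorem no_perp : ∀ s : Fin chevE6.nroots, (∀ i, ¬ ((2 : ℕ) : ℤ) ∣ hr chevE6 6 i → co chevE6 6 (vec chevE6 6 s) i = 0) →
    hr chevE6 6 ⬝ᵥ co chevE6 6 (vec chevE6 6 s) ≠ 0 := by decide +kernel

/-- the table of `q6` -/
abbrev t6 (n : ℕ) : Prop := Nat.testBit 16994592510467319572 n = false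

private theorem p3n : al 64 (fun x => tc x || Nat.beq x 0 || al 64 fun y => tc y || tc (Nat.xor x y) || Nat.beq y 0 || Nat.beq y x ||
    al 64 fun z => tc z || tc (Nat.xor x z) || tc (Nat.xor y z) || tc (Nat.xor (Nat.xor x y) z) || Nat.beq z 0 || Nat.beq z x ||
    Nat.beq z y || Nat.beq z (Nat.xor x y)) = true := by decide +kernel

private theorem rl {a b : Bool} (h : (a || b) = true) (ha : a = false) : b = true := by subst ha; exact h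
private theorem ff {a b : Bool} (ha : a = false) (hb : b = false) : (a || b) = false := by subst ha; exact hb
private theorem nf {a b : ℕ} (h : a ≠ b) : Nat.beq a b = false := Bool.eq_false_iff.2 fun e => h (Nat.eq_of_beq_eq_true e)

theorem p3_nat : ∀ x < 64, t6 x ∧ x ≠ 0 → ∀ y < 64, t6 y ∧ t6 (x ^^^ y) ∧ y ≠ 0 ∧ y ≠ x → ∀ z < 64, t6 z ∧ t6 (x ^^^ z) ∧
    t6 (y ^^^ z) ∧ t6 (x ^^^ y ^^^ z) → z = 0 ∨ z = x ∨ z = y ∨ z = x ^^^ y :=
  fun x hx ⟨a1, a2⟩ y hy ⟨b1, b2, b3, b4⟩ z hz ⟨c1, c2, c3, c4⟩ => by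
  have p := p3n
  rw [funext tc_eq] at p
  have h := al_of (rl (al_of (rl (al_of p hx) (ff a1 (nf a2))) hy) (ff (ff (ff b1 b2) (nf b3)) (nf b4))) hz
  by_contra hh
  exact Bool.eq_false_iff.1 (ff (ff (ff (ff (ff (ff (ff c1 c2) c3) c4) (nf fun e => hh (.inl e))) (nf fun e => hh (.inr (.inl e))))
    (nf fun e => hh (.inr (.inr (.inl e))))) (nf fun e => hh (.inr (.inr (.inr e))))) h

theorem p3_6 (x y z : Fin 6 → ZMod 2) (h1 : ¬ q6 x = 1) (h2 : ¬ q6 y = 1) (h3 : ¬ q6 (x + y) = 1) (h4 : x ≠ 0) (h5 : y ≠ 0)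
    (h6 : y ≠ x) (h7 : ¬ q6 z = 1) (h8 : ¬ q6 (x + z) = 1) (h9 : ¬ q6 (y + z) = 1) (h10 : ¬ q6 (x + y + z) = 1) :
    z = 0 ∨ z = x ∨ z = y ∨ z = x + y := by
  obtain ⟨⟨x, hx⟩, rfl⟩ := b6_surj x
  obtain ⟨⟨y, hy⟩, rfl⟩ := b6_surj y
  obtain ⟨⟨z, hz⟩, rfl⟩ := b6_surj z
  have e : ∀ n < 2 ^ 6, ¬ q6 (b6 n) = 1 → t6 n := fun n hn h => Bool.eq_false_iff.2 ((b6_q n hn).not.1 h)
  have e0 : b6 0 = 0 := by decide
  simp only [← b6_xor] at h3 h8 h9 h10 ⊢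
  exact (p3_nat x hx ⟨e x hx h1, fun e => h4 (e ▸ e0)⟩ y hy ⟨e y hy h2, e _ (Nat.xor_lt_two_pow hx hy) h3, fun e => h5 (e ▸ e0),
    fun e => h6 (congrArg b6 e)⟩ z hz ⟨e z hz h7, e _ (Nat.xor_lt_two_pow hx hz) h8, e _ (Nat.xor_lt_two_pow hy hz) h9,
    e _ (Nat.xor_lt_two_pow (Nat.xor_lt_two_pow hx hy) hz) h10⟩).imp (fun e => (congrArg b6 e).trans e0)
      (Or.imp (congrArg b6) (Or.imp (congrArg b6) (congrArg b6)))

variable {r : ℕ} [Fact r.Prime] {k : Type} [Field k] [CharP k r] [IsAlgClosed k] {Mx : Matrix (Fin 6) (Fin 6) ℤ}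
  (X : XF hpE6 r k Mx)

theorem gd6 (a : Fin 6 → ℤ) (ha : Lg X.D a) : Gds X.D 2 (Pe X.D {a}) := fun j u h =>
  (kacD X Nat.prime_two (pow_pos two_pos j) u).elim (Lq.lvs Nat.prime_two) fun ⟨w, s, _, _, h1, _, _, h2, _⟩ => by
    have h3 : Pp X.D (im X.D w (RP X (RS chevE6 6 s))) (X.D.cor a) := fun b hb =>
      (X.D.pair_cor ha.1 b).trans ((h (h2.ge hb)).2 a rfl)
    rw [pp_im, ← X.D.cor_act _ ha.1] at h3
    obtain ⟨t, ht, e⟩ := (X.rt_iff _).1 (ha.1.act w⁻¹)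
    have h4 := (pp_RS X).1 (((cor_eq X sl6 (ha.1.act w⁻¹)).trans (congrArg _ e.symm)) ▸ h3)
    exact (no_perp ⟨t, ht⟩ (fun i hi => h4.1 i fun e => hi (h1 i e)) h4.2).elim

theorem qc6 (hp : r ≠ 2) (x : Fin 6 → ZMod 2) (h : ¬ q6 x = 1) : QC X.D {iw X.D x} := by
  have h1 := Sz_exp (X := X.D) (fun i => ((x i).val : ℤ)) (-1)
  rw [ord_neg hp] at h1
  refine (congrArg (Lvs X.D) h1).mpr ((kacD X Nat.prime_two two_pos fun i => ((x i).val : ℤ)).elim (fun h2 => ?_)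
    fun ⟨w, s, _, h2, h3, _, _, h4, _⟩ => ?_)
  · exact Lq.lvs (j := 1) Nat.prime_two h2
  · have h5 := (ncard_Rn X _ _).symm.trans ((congrArg _ h4).trans ((ncard_im _ _).trans (ncard_RP X _)))
    refine ((q6_cnt x h).not_ge (le_of_eq_of_le (Eq.trans (congrArg card (filter_congr fun t _ => ?_)) h5) (rs_cnt s h2 h3))).elim
    rw [← c2_dot, c2_val]

/-- **`E₆`, all frames** -/
theorem geo_e6 (hp : r ≠ 2) : Geo X.D := by
  have hc := fun a => cor_eq X sl6 (a := a)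
  have e : Rc X.D = (q6 · = 1) := funext fun x => propext (rc_iff X hc (L := fun _ => True) l6 q6_root q6_ex x)
  refine geo_e (cz X) hp (pi1 X pm_E6) (by decide) (uq_of X hc (L := fun _ => True) l6 uq6)
    (fun a ha => lg_all X sl6 l6 (X.D.g_root a ha.1)) (e ▸ show ¬ q6 0 = 1 by decide) (fun x y hx => ?_)
    (by unfold P3; rw [e]; exact p3_6) (zcs X 2) (gd6 X) fun a ha => ?_
  · obtain ⟨s, h1, ⟨i, h2⟩, h3⟩ := exists_one Nat.prime_two hp.symm (qc6 X hp x (e ▸ hx :)) (iw_mem y) (iw_sq hp y)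
    exact (cc_iw hp (pi1 X pm_E6) (by decide) x).insert (pi1 X pm_E6) (by decide) (iw_mem y) h1 h2 h3
  · rw [e, hc a ha.1]
    exact forall_rt X (Q := fun a => ∀ x, c2 a ⬝ᵥ x = 0 → (q6 (x + c2 (co chevE6 6 a)) = 1 ↔ ¬ q6 x = 1)) q6_add a ha.1

theorem not_two (m : ℕ) : ¬ 2 ∣ Nat.gcd 3 m := fun h => absurd (h.trans (Nat.gcd_dvd_left 3 m)) (by decide)

theorem te6 : Sc.TE6 2 := fun _ _ _ _ _ _ _ _ h _ _ _ _ X t _ => (geo_e6 X h.symm).torImB t.ov (not_two _)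

theorem tt6 : Sc.TT6 2 := fun _ _ _ _ _ _ _ _ h _ _ _ _ _ X t _ => (geo_e6 X h.symm).torImB t.ov (not_two _)

end Cfsg.Agent.KM.Ev

private theorem dce_b9b8e7748431 : _root_.True := by
  try have : _root_.True := by simp only [_root_.Cfsg.Agent.KM.Ev.b6.eq_1]
  exact _root_.True.intro
end
end
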